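import Cfsg.Agent.Lib.CentralSylow.Simple
import Cfsg.Agent.Lib.ThreeFree.ClosedSubgroup
import Cfsg.Agent.Lib.BinaryUnitary.Main
import Cfsg.Agent.Lib.SuzukiGroup.Structure
import Cfsg.Agent.S4065
import Cfsg.Agent.S4066
import Cfsg.Agent.Lib.DimThreeSub.Models

/-!
The rank one groups in characteristic two have strongly embedded subgroups.
-/

set_option autoImplicit false
set_option linter.style.haveILetI false

namespace CfsgLib.GoldEven74

open Subgroup

universe u

variable {G : Type u} [Group G] [Finite G]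

/-- A group has a strongly embedded subgroup if an isomorphic one has. -/
theorem exists_se_congr {X : Type*} [Group X] [Finite X] (e : G ≃* X)
    (h : ∃ H : Subgroup X, Cfsg.IsStronglyEmbedded H) : ∃ H : Subgroup G, Cfsg.IsStronglyEmbedded H := by
  obtain ⟨H, hH⟩ := h
  rw [CfsgLib.Involutions.isStronglyEmbedded_iff] at hH
  obtain ⟨h1, h2, h3⟩ := hH
  refine ⟨H.comap e.toMonoidHom, CfsgLib.Involutions.isStronglyEmbedded_iff.2 ⟨fun h => h1 ?_, ?_, ?_⟩⟩
  · rw [← Subgroup.map_comap_eq_self_of_surjective (f := e.toMonoidHom) e.surjective H, h,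
      Subgroup.map_top_of_surjective _ e.surjective]
  · rwa [Nat.card_congr (e.toEquiv.subtypeEquiv (p := fun x => x ∈ H.comap e.toMonoidHom)
      (q := fun y => y ∈ H) fun x => Iff.rfl)]
  · intro g hg t ht ht2 hc
    refine h3 (e g) hg (e t) ht ((orderOf_injective e.toMonoidHom e.injective t).trans ht2) ?_
    have : e (g⁻¹ * t * g) ∈ H := hc
    rwa [map_mul, map_mul, map_inv] at this

/-- The normalizer of a trivial intersection subgroup containing its normalising involutions. -/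
theorem exists_se_of_ti [IsSimpleGroup G] (H : Subgroup G) (hne : H ≠ ⊤) (h2 : Even (Nat.card H))
    (hTI : ∀ g : G, ∀ z ∈ H, z ≠ 1 → g⁻¹ * z * g ∈ H → g ∈ normalizer (H : Set G))
    (hinv : ∀ v ∈ normalizer (H : Set G), orderOf v = 2 → v ∈ H) :
    ∃ M : Subgroup G, Cfsg.IsStronglyEmbedded M := by
  refine ⟨normalizer (H : Set G), CfsgLib.Involutions.isStronglyEmbedded_iff.2 ⟨fun h => ?_, ?_, ?_⟩⟩
  · haveI := Subgroup.normalizer_eq_top_iff.1 h
    rcases IsSimpleGroup.eq_bot_or_eq_top_of_normal H inferInstance with h' | h'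
    · rw [h', Subgroup.card_bot] at h2
      exact absurd h2 (by decide)
    · exact hne h'
  · exact even_iff_two_dvd.2 ((even_iff_two_dvd.1 h2).trans (card_dvd_of_le le_normalizer))
  · intro g hg t ht ht2 hc
    have hw : orderOf (g⁻¹ * t * g) = 2 := by
      have := (CfsgLib.Involutions.orderOf_conj_eq g⁻¹ t).trans ht2
      rwa [inv_inv] at this
    exact hg (hTI g t (hinv t ht ht2) (fun e => by rw [e, orderOf_one] at ht2; omega) (hinv _ hc hw))

theorem exists_se_psl {F : Type} [Field F] [Fintype F] {n : ℕ} (hn : 2 ≤ n) (hF : Fintype.card F = 2 ^ n)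
    [IsSimpleGroup G] (hna : ¬ IsMulCommutative G)
    (e : G ≃* Matrix.ProjectiveSpecialLinearGroup (Fin 2) F) :
    ∃ H : Subgroup G, Cfsg.IsStronglyEmbedded H := by
  haveI : Fact (Nat.Prime 2) := ⟨Nat.prime_two⟩
  letI : Fintype (GaloisField 2 n) := Fintype.ofFinite _
  let e' := e.trans (CfsgLib.DimThreeSub.pslEquiv 2 (FiniteField.ringEquivOfCardEq (K' := GaloisField 2 n)
    (by rw [hF, ← Nat.card_eq_fintype_card, GaloisField.card 2 n (by omega)])))
  haveI := MulEquiv.isSimpleGroup e'.symm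
  refine exists_se_congr e' ?_
  have hti : CfsgLib.CentralSylow.TI (Matrix.ProjectiveSpecialLinearGroup (Fin 2) (GaloisField 2 n)) :=
    fun S T hne => Cfsg.Agent.S4066.result (Cfsg.Agent.S4065.result n hn) S T hne
  obtain ⟨S⟩ : Nonempty (Sylow 2 (Matrix.ProjectiveSpecialLinearGroup (Fin 2) (GaloisField 2 n))) :=
    inferInstance
  have hna' : ¬ IsMulCommutative (Matrix.ProjectiveSpecialLinearGroup (Fin 2) (GaloisField 2 n)) :=
    fun h => hna ⟨⟨fun a b => e'.injective (by rw [map_mul, map_mul]; exact h.is_comm.comm _ _)⟩⟩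
  obtain ⟨T, hne⟩ : ∃ T : Sylow 2 (Matrix.ProjectiveSpecialLinearGroup (Fin 2) (GaloisField 2 n)), S ≠ T := by
    by_contra h
    push Not at h
    haveI : (S : Subgroup (Matrix.ProjectiveSpecialLinearGroup (Fin 2) (GaloisField 2 n))).Normal :=
      Subgroup.normalizer_eq_top_iff.1 (eq_top_iff.2 fun g _ =>
        Sylow.smul_eq_iff_mem_normalizer.1 (h (g • S)).symm)
    rcases IsSimpleGroup.eq_bot_or_eq_top_of_normal
      (S : Subgroup (Matrix.ProjectiveSpecialLinearGroup (Fin 2) (GaloisField 2 n))) inferInstance with h' | h'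
    · exact S.ne_bot_of_dvd_card (CfsgLib.ThreeFree.even_card_of_simple (by
        by_contra hc; push Not at hc; exact hna' ⟨⟨hc⟩⟩)) h'
    · haveI : Group.IsSolvable (Matrix.ProjectiveSpecialLinearGroup (Fin 2) (GaloisField 2 n)) := by
        haveI := S.2.isNilpotent
        exact Group.isSolvable_of_surjective (f := (S : Subgroup _).subtype)
          (fun x => ⟨⟨x, h' ▸ mem_top x⟩, rfl⟩)
      exact hna' ⟨⟨IsSimpleGroup.comm_iff_isSolvable.mpr inferInstance⟩⟩
  exact ⟨_, CfsgLib.CentralSylow.stronglyEmbedded_of_ti hti hne⟩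

theorem exists_se_suzuki (h : Cfsg.Lie.IsoSuzuki G) [IsSimpleGroup G] (hna : ¬ IsMulCommutative G) :
    ∃ H : Subgroup G, Cfsg.IsStronglyEmbedded H := by
  haveI : Fact (Nat.Prime 2) := ⟨Nat.prime_two⟩
  obtain ⟨F, _, _, m, hm, hF, ⟨e⟩⟩ := h
  obtain ⟨hchar, ⟨P⟩⟩ := CfsgLib.SuzukiGroup.exists_params hF
  haveI := hchar
  haveI := MulEquiv.isSimpleGroup e.symm
  refine exists_se_congr e (exists_se_of_ti (CfsgLib.SuzukiGroup.unip P) ?_ ?_ ?_ ?_)
  · intro h
    haveI : Group.IsSolvable ↥(Cfsg.Lie.Sz F (2 ^ (m + 1))) := by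
      haveI := (CfsgLib.SuzukiGroup.sylowTwo P).2.isNilpotent
      refine Group.isSolvable_of_surjective (f := (CfsgLib.SuzukiGroup.sylowTwo P : Subgroup _).subtype)
        (fun x => ⟨⟨x, ?_⟩, rfl⟩)
      rw [CfsgLib.SuzukiGroup.coe_sylowTwo, h]
      exact mem_top x
    exact hna ⟨⟨fun a b => e.injective (by
      rw [map_mul, map_mul]; exact IsSimpleGroup.comm_iff_isSolvable.mpr inferInstance _ _)⟩⟩
  · rw [CfsgLib.SuzukiGroup.card_unip, Nat.even_pow]
    exact ⟨even_iff_two_dvd.2 CfsgLib.SuzukiGroup.even_card, two_ne_zero⟩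
  · intro g z hz hz1 hg
    rw [CfsgLib.SuzukiGroup.normalizer_unip]
    exact inv_mem_iff.1 (CfsgLib.SuzukiGroup.conj_unip_ne P hz hz1 (by rwa [inv_inv]))
  · intro v hv hv2
    have hp : IsPGroup 2 (zpowers v) :=
      IsPGroup.of_card (n := 1) (by rw [Nat.card_zpowers, hv2, pow_one])
    rw [← CfsgLib.SuzukiGroup.coe_sylowTwo P] at hv ⊢
    have h3 := hp.inf_normalizer_sylow (CfsgLib.SuzukiGroup.sylowTwo P)
    have h4 : zpowers v ⊓ normalizer ((CfsgLib.SuzukiGroup.sylowTwo P : Sylow 2 _) : Set _) = zpowers v :=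
      inf_eq_left.2 (zpowers_le.2 hv)
    rw [h4] at h3
    exact (h3 ▸ mem_zpowers v : v ∈ zpowers v ⊓ _).2

theorem exists_se_psu {F : Type} [Field F] [Fintype F] {n : ℕ} (_hn : 2 ≤ n) (hF : Fintype.card F = 4 ^ n)
    [IsSimpleGroup G] (hna : ¬ IsMulCommutative G) (e : G ≃* Cfsg.PSU 3 F (2 ^ n)) :
    ∃ H : Subgroup G, Cfsg.IsStronglyEmbedded H := by
  haveI : Fact (Nat.Prime 2) := ⟨Nat.prime_two⟩
  have hF' : Fintype.card F = (2 ^ n) ^ 2 := by rw [hF, ← pow_mul, mul_comm, pow_mul]; norm_num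
  haveI : CharP F 2 := charP_of_card_eq_prime_pow (f := n * 2) (by rw [hF', ← pow_mul])
  haveI := MulEquiv.isSimpleGroup e.symm
  refine exists_se_congr e ?_
  obtain ⟨P⟩ : Nonempty (Sylow 2 (Cfsg.PSU 3 F (2 ^ n))) := inferInstance
  obtain ⟨c, hc, -, -⟩ := CfsgLib.BinaryUnitary.sylow_center hF' P
  obtain ⟨A, hA⟩ := CfsgLib.BinaryUnitary.exists_isT hF' hc
  have hne1 := CfsgLib.BinaryUnitary.IsT.pr_ne_one hF' hA
  have hmem := CfsgLib.BinaryUnitary.mem_zc hF' hc hA
  have hsq := CfsgLib.BinaryUnitary.zc_sq hF' hc hmem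
  refine exists_se_of_ti (CfsgLib.BinaryUnitary.zc hF' c hc.2) ?_ ?_ ?_ ?_
  · intro h
    refine hna ⟨⟨fun a b => e.injective ?_⟩⟩
    have key : ∀ x : Cfsg.PSU 3 F (2 ^ n), x * x = 1 := fun x =>
      CfsgLib.BinaryUnitary.zc_sq hF' hc (h ▸ mem_top x)
    rw [map_mul, map_mul]
    calc e a * e b = (e a * e b)⁻¹ := eq_inv_of_mul_eq_one_left (key _)
      _ = e b * e a := by
        rw [mul_inv_rev, ← eq_inv_of_mul_eq_one_left (key (e a)), ← eq_inv_of_mul_eq_one_left (key (e b))]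
  · have h2 : orderOf (CfsgLib.BinaryUnitary.pr A) = 2 := orderOf_eq_prime (by rwa [pow_two]) hne1
    rw [even_iff_two_dvd]
    exact (dvd_of_eq h2.symm).trans (Subgroup.orderOf_dvd_natCard _ hmem)
  · intro g z hz hz1 hg
    rcases CfsgLib.BinaryUnitary.zc_ti hF' hc g with h | h
    · exact mem_normalizer_iff''.2 h
    · exact absurd (h z hz hg) hz1
  · intro v hv hv2
    exact CfsgLib.BinaryUnitary.zc_involution hF' hc v (by rw [← pow_two]; exact orderOf_dvd_iff_pow_eq_one.1 (dvd_of_eq hv2))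
      (mem_normalizer_iff''.1 hv)

end CfsgLib.GoldEven74
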