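import Cfsg.Agent.Lib.Involutions.StronglyEmbedded
import Cfsg.Prelude.Def_EvenType

/-!
A maximal subgroup above a strongly embedded subgroup is strongly embedded, and is strongly `Z`-embedded for
the class of a 2-central involution.
-/

set_option autoImplicit false
set_option linter.style.haveILetI false

namespace CfsgLib.GoldEven74

open Subgroup Cfsg CfsgLib.Involutions

variable {G : Type*} [Group G] [Finite G] {M : Subgroup G}

/-- A 2-subgroup meeting a strongly embedded subgroup in an involution lies inside it. -/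
theorem twoGroup_le (hM : IsStronglyEmbedded M) {P : Subgroup G} (hP : IsPGroup 2 P) {t : G} (htP : t ∈ P)
    (htM : t ∈ M) (ht : orderOf t = 2) : P ≤ M := by
  haveI : Fact (Nat.Prime 2) := ⟨Nat.prime_two⟩
  have ht1 : t ≠ 1 := fun e => by rw [e, orderOf_one] at ht; omega
  haveI : Nontrivial ↥P := ⟨⟨⟨t, htP⟩, 1, fun e => ht1 (congrArg Subtype.val e)⟩⟩
  haveI := hP.center_nontrivial
  obtain ⟨c, hc⟩ := exists_prime_orderOf_dvd_card' (G := ↥(center ↥P)) 2
    ((hP.to_subgroup (center ↥P)).card_eq_or_dvd.resolve_left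
      (fun h => (Finite.one_lt_card_iff_nontrivial.2 inferInstance).ne' h))
  have hc2 : orderOf ((c : P) : G) = 2 := by
    rw [Subgroup.orderOf_coe, Subgroup.orderOf_coe, hc]
  have hcP : ∀ x ∈ P, x * ((c : P) : G) = ((c : P) : G) * x := fun x hx =>
    congrArg Subtype.val (Subgroup.mem_center_iff.1 c.2 ⟨x, hx⟩)
  have hcM : ((c : P) : G) ∈ M :=
    se_centralizer_le hM htM ht (mem_centralizer_singleton_iff.2 (hcP t htP).symm)
  exact fun x hx => se_centralizer_le hM hcM hc2 (mem_centralizer_singleton_iff.2 (hcP x hx))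

/-- A strongly embedded subgroup contains a Sylow 2-subgroup. -/
theorem exists_sylow_le (hM : IsStronglyEmbedded M) : ∃ P : Sylow 2 G, (P : Subgroup G) ≤ M := by
  haveI : Fact (Nat.Prime 2) := ⟨Nat.prime_two⟩
  obtain ⟨t, htM, ht⟩ := exists_involution_of_even_card M hM.2.1
  obtain ⟨P, hP⟩ := (IsPGroup.of_card (n := 1) (p := 2) (G := zpowers t)
    (by rw [Nat.card_zpowers, ht, pow_one])).exists_le_sylow
  exact ⟨P, twoGroup_le hM P.isPGroup' (hP (mem_zpowers t)) htM ht⟩

theorem se_of_le {H : Subgroup G} (hH : IsStronglyEmbedded H) (hle : H ≤ M) (hne : M ≠ ⊤) :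
    IsStronglyEmbedded M := by
  haveI : Fact (Nat.Prime 2) := ⟨Nat.prime_two⟩
  obtain ⟨P, hP⟩ := exists_sylow_le hH
  have key : ∀ t ∈ M, orderOf t = 2 → ∃ m ∈ M, m * t * m⁻¹ ∈ H := by
    intro t htM ht
    have ht' : orderOf (⟨t, htM⟩ : M) = 2 := by
      rw [← ht]
      exact (orderOf_injective M.subtype M.subtype_injective ⟨t, htM⟩).symm
    obtain ⟨Q, hQ⟩ := (IsPGroup.of_card (n := 1) (p := 2) (G := zpowers (⟨t, htM⟩ : M))
      (by rw [Nat.card_zpowers, ht', pow_one])).exists_le_sylow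
    obtain ⟨m, hm⟩ := MulAction.exists_smul_eq M Q (P.subtype (hP.trans hle))
    refine ⟨m, m.2, hP ?_⟩
    have : m * ⟨t, htM⟩ * m⁻¹ ∈ (P.subtype (hP.trans hle) : Subgroup M) := by
      rw [← hm, Sylow.coe_subgroup_smul]
      exact Subgroup.smul_mem_pointwise_smul _ (MulAut.conj m) _ (hQ (mem_zpowers _))
    rw [Sylow.coe_subtype, mem_subgroupOf] at this
    simpa using this
  refine isStronglyEmbedded_iff.2 ⟨hne, ?_, ?_⟩
  · exact even_iff_two_dvd.2 ((even_iff_two_dvd.1 hH.2.1).trans (card_dvd_of_le hle))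
  · intro g hg t htM ht hc
    obtain ⟨a, haM, ha⟩ := key t htM ht
    have hw : orderOf (g⁻¹ * t * g) = 2 := by
      have := (orderOf_conj_eq g⁻¹ t).trans ht
      rwa [inv_inv] at this
    obtain ⟨b, hbM, hb⟩ := key _ hc hw
    have hmem : a * g * b⁻¹ ∈ H := by
      refine se_mem_of_conj_mem hH ha ((orderOf_conj_eq a t).trans ht) ?_
      convert hb using 1
      group
    apply hg
    have : g = a⁻¹ * (a * g * b⁻¹) * b := by group
    rw [this]
    exact mul_mem (mul_mem (inv_mem haM) (hle hmem)) hbM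

theorem stronglyZEmbedded_of_se (hM : IsStronglyEmbedded M) :
    ∃ z : G, IsTwoCentralInvolution z ∧ IsStronglyZEmbedded (conjugatesOf z) M := by
  haveI : Fact (Nat.Prime 2) := ⟨Nat.prime_two⟩
  obtain ⟨P, hP⟩ := exists_sylow_le hM
  obtain ⟨t, htM, ht⟩ := exists_involution_of_even_card M hM.2.1
  have h2G : 2 ∣ Nat.card G := (dvd_of_eq ht.symm).trans (orderOf_dvd_natCard t)
  haveI : Nontrivial ↥(P : Subgroup G) := by
    rw [Subgroup.nontrivial_iff_ne_bot]
    exact P.ne_bot_of_dvd_card h2G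
  haveI := P.isPGroup'.center_nontrivial
  obtain ⟨c, hc⟩ := exists_prime_orderOf_dvd_card' (G := ↥(center ↥(P : Subgroup G))) 2
    ((P.isPGroup'.to_subgroup (center ↥(P : Subgroup G))).card_eq_or_dvd.resolve_left
      (fun h => (Finite.one_lt_card_iff_nontrivial.2 inferInstance).ne' h))
  set z : G := ((c : (P : Subgroup G)) : G) with hz
  have hz2 : orderOf z = 2 := by
    rw [hz, Subgroup.orderOf_coe, Subgroup.orderOf_coe, hc]
  have hzP : z ∈ (P : Subgroup G) := (c : (P : Subgroup G)).2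
  refine ⟨z, ⟨hz2, P, hzP, fun x hx => congrArg Subtype.val (Subgroup.mem_center_iff.1 c.2 ⟨x, hx⟩)⟩,
    hM.1, ⟨z, mem_conjugatesOf_self, hP hzP⟩,
    fun w hw hwM => se_centralizer_le hM hwM ((orderOf_eq_of_isConj hw).trans hz2), ?_, ?_⟩
  · obtain ⟨T⟩ : Nonempty (Sylow 2 ↥M) := inferInstance
    refine ⟨T, fun A g hA hgA => ?_⟩
    by_cases h : ∃ a ∈ A, a ≠ 1
    · obtain ⟨a, haA, ha1⟩ := h
      refine ⟨g, ?_, rfl⟩
      obtain ⟨⟨a', haM⟩, haT, rfl⟩ := hA haA
      obtain ⟨k, hk⟩ := T.isPGroup' ⟨⟨a', haM⟩, haT⟩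
      have hak : a' ^ 2 ^ k = 1 := congrArg (fun x : (T : Subgroup M) => ((x : M) : G)) hk
      have hev : 2 ∣ orderOf a' := by
        obtain ⟨j, -, hj⟩ := (Nat.dvd_prime_pow Nat.prime_two).1 (orderOf_dvd_of_pow_eq_one hak)
        rcases Nat.eq_zero_or_pos j with rfl | hj0
        · exact absurd (orderOf_eq_one_iff.1 hj) ha1
        · exact hj ▸ dvd_pow_self 2 (by omega)
      obtain ⟨⟨b, hbM⟩, -, hb⟩ := hgA ⟨_, haA, rfl⟩
      simp only [Subgroup.coe_subtype] at hb
      set i := a' ^ (orderOf a' / 2) with hi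
      have hi2 : orderOf i = 2 := orderOf_pow_orderOf_div (orderOf_pos a').ne' hev
      have hiM : i ∈ M := pow_mem haM _
      have hgi : g * i * g⁻¹ ∈ M := by
        rw [hi, ← conj_pow]
        exact pow_mem (hb ▸ hbM) _
      refine inv_mem_iff.1 (se_mem_of_conj_mem hM hiM hi2 ?_)
      rwa [inv_inv]
    · push Not at h
      refine ⟨1, one_mem M, Set.image_congr fun a ha => ?_⟩
      simp [h a ha]
  · intro H _ hne hHM
    obtain ⟨w, hwZ, hwH, hwM⟩ := hne
    have hw2 : orderOf w = 2 := (orderOf_eq_of_isConj hwZ).trans hz2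
    set D := closure (conjugatesOf z ∩ (H : Set G)) with hD
    have hwD : w ∈ D := subset_closure ⟨hwZ, hwH⟩
    have hDM : ¬ D ≤ M := by
      intro hle
      apply hHM
      intro h hh
      refine inv_mem_iff.1 (se_mem_of_conj_mem hM hwM hw2 ?_)
      rw [inv_inv]
      exact hle (subset_closure ⟨(hwZ : IsConj z w).trans (isConj_iff.2 ⟨h, rfl⟩),
        mul_mem (mul_mem hh hwH) (inv_mem hh)⟩)
    refine ⟨hDM, ?_, ?_, ?_⟩
    · refine Dvd.dvd.trans (dvd_of_eq ?_) (orderOf_dvd_natCard (⟨w, hwD⟩ : D))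
      rw [← hw2]
      exact orderOf_injective D.subtype D.subtype_injective ⟨w, hwD⟩
    · rw [Ne, subgroupOf_eq_top]
      exact fun h => hDM (h.trans inf_le_right)
    · have hw' : orderOf (⟨w, hwD⟩ : D) = 2 := by
        rw [← hw2]
        exact (orderOf_injective D.subtype D.subtype_injective ⟨w, hwD⟩).symm
      obtain ⟨R, hR⟩ := (IsPGroup.of_card (n := 1) (p := 2) (G := zpowers (⟨w, hwD⟩ : D))
        (by rw [Nat.card_zpowers, hw', pow_one])).exists_le_sylow
      have hRM : (R : Subgroup D).map D.subtype ≤ M := twoGroup_le hM (R.isPGroup'.map _)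
        ⟨_, hR (mem_zpowers _), rfl⟩ hwM hw2
      refine ⟨R, iSup_le fun ⟨Q, hQR, hQ⟩ => ?_⟩
      intro x hx
      obtain ⟨a, haQ, ha⟩ : ∃ a ∈ Q, orderOf a = 2 := by
        have hQp : IsPGroup 2 Q := R.isPGroup'.to_le hQR
        rcases hQp.card_eq_or_dvd with h1 | h1
        · refine absurd (fun A _ _ => ?_) hQ
          rw [Nat.sub_self, pow_zero]
          exact Nat.le_of_dvd Nat.one_pos (h1 ▸ card_subgroup_dvd_card A)
        · obtain ⟨a, ha⟩ := exists_prime_orderOf_dvd_card' (G := Q) 2 h1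
          exact ⟨a, a.2, (orderOf_injective Q.subtype Q.subtype_injective a).trans ha⟩
      refine ⟨x.2, ?_⟩
      refine se_mem_of_conj_mem hM (hRM ⟨a, hQR haQ, rfl⟩)
        ((orderOf_injective D.subtype D.subtype_injective a).trans ha) ?_
      exact hRM ⟨x⁻¹ * a * x, hQR ((mem_normalizer_iff''.1 hx a).1 haQ), rfl⟩

end CfsgLib.GoldEven74
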