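import Cfsg.Agent.Lib.GoldEven74.Embedded
import Cfsg.Agent.Lib.GoldEven74.Zembedded
import Cfsg.Agent.Lib.GoldCons74.Closed
import Cfsg.Agent.Lib.CTwoAbelian.Main
import Cfsg.Agent.Lib.PSL2.Basic
import Cfsg.Agent.Lib.PSL2.MaxDihedral
import Cfsg.Agent.Lib.Components.SLQuasisimple
import Cfsg.Agent.Lib.Components.Basic

/-!
Strongly closed abelian 2-subgroups in groups of even type, from Goldschmidt's theorem for simple groups.
-/

set_option autoImplicit false
set_option linter.style.haveILetI false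

namespace CfsgLib.GoldEven74

open Subgroup Cfsg

universe u

theorem card_psl_three_five {F : Type} [Field F] [Fintype F] {q : ℕ} (hF : Fintype.card F = q)
    (hq : q % 8 = 3 ∨ q % 8 = 5) :
    2 * Nat.card (Matrix.ProjectiveSpecialLinearGroup (Fin 2) F) = (q + 1) * (q * (q - 1)) ∧
      ¬ 8 ∣ Nat.card (Matrix.ProjectiveSpecialLinearGroup (Fin 2) F) := by
  have h := CfsgLib.PSL2.card_psl (F := F)
  rw [hF, Nat.gcd_rec, show (q - 1) % 2 = 0 by omega, Nat.gcd_zero_left] at h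
  refine ⟨h, fun ⟨c, hc⟩ => ?_⟩
  rw [hc] at h
  rcases hq with hq | hq
  · obtain ⟨k, rfl⟩ : ∃ k, q = 8 * k + 3 := ⟨q / 8, by omega⟩
    rw [show 8 * k + 3 + 1 = 4 * (2 * k + 1) by ring, show 8 * k + 3 - 1 = 2 * (4 * k + 1) by omega,
      show 4 * (2 * k + 1) * ((8 * k + 3) * (2 * (4 * k + 1))) =
        8 * (2 * (32 * k * k * k + 36 * k * k + 13 * k + 1) + 1) by ring] at h
    omega
  · obtain ⟨k, rfl⟩ : ∃ k, q = 8 * k + 5 := ⟨q / 8, by omega⟩
    rw [show 8 * k + 5 + 1 = 2 * (4 * k + 3) by ring, show 8 * k + 5 - 1 = 4 * (2 * k + 1) by omega,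
      show 2 * (4 * k + 3) * ((8 * k + 5) * (4 * (2 * k + 1))) =
        8 * (2 * (32 * k * k * k + 60 * k * k + 37 * k + 7) + 1) by ring] at h
    omega

theorem ab2_of_not_eight {X : Type*} [Group X] [Finite X] (h : ¬ 8 ∣ Nat.card X) :
    CfsgLib.CTwoAbelian.Ab2 X := fun S => by
  haveI : Fact (Nat.Prime 2) := ⟨Nat.prime_two⟩
  obtain ⟨a, ha⟩ := IsPGroup.iff_card.1 S.isPGroup'
  have ha2 : a ≤ 2 := by
    by_contra hc
    exact h ((pow_dvd_pow 2 (show 3 ≤ a by omega)).trans (ha ▸ card_subgroup_dvd_card _))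
  interval_cases a
  · haveI : Subsingleton ↥(S : Subgroup X) := (Nat.card_eq_one_iff_unique.1 (by simpa using ha)).1
    exact ⟨⟨fun x y => Subsingleton.elim _ _⟩⟩
  · haveI := isCyclic_of_prime_card (α := ↥(S : Subgroup X)) (p := 2) (by simpa using ha)
    infer_instance
  · exact IsPGroup.isMulCommutative_of_card_eq_prime_sq ha

theorem eight_dvd_of_rank {G : Type*} [Group G] [Finite G] (h : PRankAtLeast 2 3 G) : 8 ∣ Nat.card G := by
  obtain ⟨A, -, hA, hc⟩ := h
  haveI : Fact (Nat.Prime 2) := ⟨Nat.prime_two⟩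
  obtain ⟨a, ha⟩ := IsPGroup.iff_card.1 (show IsPGroup 2 A from fun x => ⟨1, Subtype.ext (by
    simpa using hA x x.2)⟩)
  have h3 : 3 ≤ a := (Nat.pow_le_pow_iff_right one_lt_two).1 (ha ▸ hc)
  exact ((pow_dvd_pow 2 h3).trans (dvd_of_eq ha.symm)).trans (card_subgroup_dvd_card A)

theorem not_cpSimple_psl {X : Type*} [Group X] [Finite X] [IsSimpleGroup X] (hnc : ¬ IsMulCommutative X)
    {F : Type} [Field F] [Fintype F] {n : ℕ} (hn : 1 ≤ n) (hF : Fintype.card F = 3 ^ (2 * n + 1))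
    (e : X ≃* Matrix.ProjectiveSpecialLinearGroup (Fin 2) F) : ¬ IsCpSimple 2 X := by
  intro hS
  have hq : 3 ^ (2 * n + 1) % 8 = 3 := by
    rw [pow_succ, pow_mul, Nat.mul_mod, Nat.pow_mod]
    norm_num
  obtain ⟨hcard, h8⟩ := card_psl_three_five hF (Or.inl hq)
  rw [← Nat.card_congr e.toEquiv] at hcard h8
  rcases CfsgLib.CTwoAbelian.simple_cases hnc hS (ab2_of_not_eight h8) with
    ⟨K, _, _, _, h4, hne, ⟨e'⟩⟩ | ⟨⟨e'⟩⟩
  · obtain ⟨k, -, hk⟩ := FiniteField.card K 2
    have h := CfsgLib.PSL2.card_psl (F := K)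
    rw [← Nat.card_congr e'.toEquiv, hk] at h
    have h3 : 3 ≤ (k : ℕ) := by
      rw [hk] at h4 hne
      by_contra hc
      have : (k : ℕ) = 1 ∨ (k : ℕ) = 2 := by have := k.pos; omega
      rcases this with hk' | hk' <;> rw [hk'] at h4 hne <;> omega
    have hg : Nat.gcd 2 (2 ^ (k : ℕ) - 1) = 1 := by
      rw [Nat.gcd_rec, show (2 ^ (k : ℕ) - 1) % 2 = 1 from ?_]
      · simp
      obtain ⟨j, hj⟩ : ∃ j, (k : ℕ) = j + 1 := ⟨k - 1, by omega⟩
      rw [hj, pow_succ]
      have := Nat.one_le_two_pow (n := j)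
      omega
    rw [hg, one_mul] at h
    refine h8 (h ▸ dvd_mul_of_dvd_right (dvd_mul_of_dvd_left ?_ _) _)
    exact (pow_dvd_pow 2 h3)
  · rw [Nat.card_congr e'.toEquiv, CfsgLib.PSL2.card_alt_five] at hcard
    have : 27 ≤ 3 ^ (2 * n + 1) := by
      calc 27 = 3 ^ 3 := rfl
        _ ≤ _ := Nat.pow_le_pow_right (by norm_num) (by omega)
    have h26 := Nat.mul_le_mul (show 28 ≤ 3 ^ (2 * n + 1) + 1 by omega)
      (Nat.mul_le_mul this (show 26 ≤ 3 ^ (2 * n + 1) - 1 by omega))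
    omega

theorem not_reeType_of_evenType {G : Type u} [Group G] [Finite G] (hE : IsOfEvenType G)
    (hR : IsReeType G) : False := by
  obtain ⟨-, -, t, K, n, hn, ht, -, ⟨htC, hKC, hcomm, -, hsup⟩, F, _, _, hF, ⟨eK⟩⟩ := hR
  set C := centralizer ({t} : Set G) with hC
  have hcore : pPrimeCore 2 ↥C = ⊥ :=
    (map_eq_bot_iff_of_injective _ C.subtype_injective).1 (hE.2.1 t ht)
  set f := QuotientGroup.mk' (pPrimeCore 2 ↥C) with hf
  have hinj : Function.Injective f := by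
    rw [← MonoidHom.ker_eq_bot_iff, hf, QuotientGroup.ker_mk', hcore]
  haveI hKn : (K.subgroupOf C).Normal := by
    refine ⟨fun k hk c => ?_⟩
    rw [mem_subgroupOf] at hk ⊢
    have hcK : C ≤ normalizer (K : Set G) := by
      rw [← hsup]
      refine sup_le (fun a ha => mem_normalizer_iff.2 fun x => ⟨fun hx => ?_, fun hx => ?_⟩) le_normalizer
      · rw [hcomm a ha x hx, mul_assoc, mul_inv_cancel, mul_one]
        exact hx
      · have h1 := hcomm a ha _ hx
        have : a * x * a⁻¹ = x := by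
          calc a * x * a⁻¹ = a⁻¹ * (a * (a * x * a⁻¹)) := by group
            _ = a⁻¹ * ((a * x * a⁻¹) * a) := by rw [h1]
            _ = x := by group
        rwa [this] at hx
    simpa using (mem_normalizer_iff.1 (hcK c.2) _).1 hk
  have h4 : 4 ≤ Fintype.card F := by
    rw [hF]
    calc 4 ≤ 3 ^ 3 := by norm_num
      _ ≤ _ := Nat.pow_le_pow_right (by norm_num) (by omega)
  have hsl : IsQuasisimple (Matrix.SpecialLinearGroup (Fin 2) F) :=
    CfsgLib.Components39.sl_isQuasisimple le_rfl (fun _ => h4)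
  haveI : IsSimpleGroup (Matrix.ProjectiveSpecialLinearGroup (Fin 2) F) := hsl.2
  have hpsl : IsQuasisimple (Matrix.ProjectiveSpecialLinearGroup (Fin 2) F) :=
    CfsgLib.Components.isQuasisimple_of_surjective hsl _ (QuotientGroup.mk'_surjective _)
  set K' := (K.subgroupOf C).map f with hK'
  let e : ↥K' ≃* Matrix.ProjectiveSpecialLinearGroup (Fin 2) F :=
    (((K.subgroupOf C).equivMapOfInjective f hinj).symm.trans (subgroupOfEquivOfLe hKC)).trans eK
  haveI : IsSimpleGroup ↥K' := MulEquiv.isSimpleGroup e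
  have hq : IsQuasisimple ↥K' := CfsgLib.Components.isQuasisimple_of_mulEquiv hpsl e.symm
  haveI : K'.Normal := hKn.map f (QuotientGroup.mk'_surjective _)
  obtain ⟨-, -, hS, -⟩ := hE.1 t ht K' ⟨Subgroup.Normal.isSubnormal inferInstance, hq⟩
  have hz : center ↥K' = ⊥ :=
    (IsSimpleGroup.eq_bot_or_eq_top_of_normal (center ↥K') inferInstance).resolve_right
      (CfsgLib.Components.quasisimple_center_ne_top hq)
  let e' : ↥K' ⧸ center ↥K' ≃* Matrix.ProjectiveSpecialLinearGroup (Fin 2) F :=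
    ((QuotientGroup.quotientMulEquivOfEq hz).trans QuotientGroup.quotientBot).trans e
  haveI := hq.2
  refine not_cpSimple_psl (fun h => CfsgLib.Components.quasisimple_not_isMulCommutative hpsl ?_) hn hF e' hS
  exact ⟨⟨fun a b => e'.symm.injective (by rw [map_mul, map_mul]; exact h.is_comm.comm _ _)⟩⟩

theorem stronglyClosed_abelian_evenType (hGS : CfsgLib.GoldCons74.GoldschmidtSimple.{u}) {G : Type u}
    [Group G] [Finite G] [IsSimpleGroup G] (hna : ¬ IsMulCommutative G) (hE : IsOfEvenType G)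
    (S : Sylow 2 G) (A : Subgroup G) (hA : A ≠ ⊥) (hAc : IsMulCommutative A)
    (hAS : IsStronglyClosed A (S : Subgroup G)) :
    (∃ (M : Subgroup G) (z : G), IsCoatom M ∧ IsTwoCentralInvolution z ∧
      IsStronglyZEmbedded (conjugatesOf z) M) ∨ Spor.IsoJ1 G := by
  have key : (∃ H : Subgroup G, IsStronglyEmbedded H) →
      ∃ (M : Subgroup G) (z : G), IsCoatom M ∧ IsTwoCentralInvolution z ∧
        IsStronglyZEmbedded (conjugatesOf z) M := by
    rintro ⟨H, hH⟩
    obtain ⟨M, hM, hle⟩ := (eq_top_or_exists_le_coatom H).resolve_left hH.1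
    obtain ⟨z, hz, hZ⟩ := stronglyZEmbedded_of_se (se_of_le hH hle hM.1)
    exact ⟨M, z, hM, hz, hZ⟩
  rcases hGS G hna S A hA hAc hAS with h | ⟨F, _, _, n, hn, hF, ⟨e⟩⟩ | h |
    ⟨F, _, _, n, hn, hF, ⟨e⟩⟩ | ⟨F, _, _, q, hF, -, hq, ⟨e⟩⟩ | h
  · exact (not_reeType_of_evenType hE h).elim
  · exact Or.inl (key (exists_se_psl (by omega) hF hna e))
  · exact Or.inl (key (exists_se_suzuki h hna))
  · exact Or.inl (key (exists_se_psu hn hF hna e))
  · refine absurd (eight_dvd_of_rank hE.2.2) ?_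
    rw [Nat.card_congr e.toEquiv]
    exact (card_psl_three_five hF hq).2
  · exact Or.inr h

end CfsgLib.GoldEven74
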